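import Mathlib

/-!
# Integral closure of a normal domain in a quotient field of a finite étale algebra (helper2)

`R` integrally closed domain with fraction field `K`, `S` finite étale over `R`, `φ : S → L₁` a map to
a field such that `S ⊗ K → L₁` is surjective.  Then the integral closure of `R` in `L₁` is the image
of `φ`, and it is étale over `R`.
-/

set_option autoImplicit false
set_option backward.isDefEq.respectTransparency.types false
set_option synthInstance.maxHeartbeats 400000
set_option maxHeartbeats 4000000
set_option linter.style.haveILetI false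
set_option linter.unusedSectionVars false
set_option linter.unusedVariables false

universe u
open TensorProduct

namespace Groth.Agent.Helper2.Compositum

section Idem

/-- In a reduced artinian ring, the kernel of a surjection onto a field is cut out by an
idempotent. -/
theorem exists_idem {T F : Type*} [CommRing T] [IsArtinianRing T] [IsReduced T] [Field F]
    (ψ : T →+* F) (hψ : Function.Surjective ψ) :
    ∃ e : T, IsIdempotentElem e ∧ ψ e = 1 ∧ ∀ t, ψ t = 0 → e * t = 0 := by
  classical
  haveI hmax : (RingHom.ker ψ).IsMaximal := RingHom.ker_isMaximal_of_surjective ψ hψ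
  let m₀ : MaximalSpectrum T := ⟨RingHom.ker ψ, hmax⟩
  let E := IsArtinianRing.equivPi T
  let e : T := E.symm (Pi.single m₀ 1)
  have hEe : E e = Pi.single m₀ 1 := E.apply_symm_apply _
  refine ⟨e, ?_, ?_, ?_⟩
  · apply E.injective
    rw [map_mul, hEe]
    ext m
    by_cases h : m = m₀
    · subst h
      simp
    · simp [Pi.single_eq_of_ne h]
  · have h1 : (1 - e) ∈ RingHom.ker ψ := by
      have h2 : E (1 - e) m₀ = 0 := by
        rw [map_sub, map_one, hEe]
        simp
      rw [IsArtinianRing.equivPi_apply] at h2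
      exact Ideal.Quotient.eq_zero_iff_mem.mp h2
    rw [RingHom.mem_ker, map_sub, map_one, sub_eq_zero] at h1
    exact h1.symm
  · intro t ht
    apply E.injective
    rw [map_mul, hEe, map_zero]
    ext m
    by_cases h : m = m₀
    · subst h
      have h3 : E t m₀ = 0 := by
        rw [IsArtinianRing.equivPi_apply]
        exact Ideal.Quotient.eq_zero_iff_mem.mpr ht
      simp [h3]
    · simp [Pi.single_eq_of_ne h]

end Idem

theorem isIntegral_of_idem (R : Type*) {T : Type*} [CommRing R] [CommRing T] [Algebra R T] {e : T}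
    (he : IsIdempotentElem e) : IsIntegral R e := by
  refine ⟨Polynomial.X * (Polynomial.X - Polynomial.C 1),
    Polynomial.monic_X.mul (Polynomial.monic_X_sub_C 1), ?_⟩
  rw [Polynomial.eval₂_mul, Polynomial.eval₂_sub, Polynomial.eval₂_X, Polynomial.eval₂_C, map_one,
    mul_sub, mul_one, he.eq, sub_self]

section Core

variable {R : Type u} [CommRing R] [IsDomain R] [IsIntegrallyClosed R]
  {K : Type u} [Field K] [Algebra R K] [IsFractionRing R K]
  {S : Type u} [CommRing S] [Algebra R S] [Algebra.Etale R S] [Module.Finite R S]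
  {L₁ : Type u} [Field L₁] [Algebra R L₁]

/-- `S` is integrally closed in `S ⊗ K`. -/
theorem exists_eq_tmul_one (t : S ⊗[R] K) (ht : IsIntegral R t) : ∃ s : S, t = s ⊗ₜ[R] (1 : K) := by
  have htS : IsIntegral S t := ht.tower_top
  obtain ⟨w, hw⟩ := (TensorProduct.toIntegralClosure_bijective_of_smooth (R := R) (S := S)
    (B := K)).2 ⟨t, htS⟩
  have key : ∀ w : S ⊗[R] (integralClosure R K),
      ∃ s : S, ((TensorProduct.toIntegralClosure R S K w : integralClosure S (S ⊗[R] K)) :
        S ⊗[R] K) = s ⊗ₜ[R] (1 : K) := by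
    intro w
    induction w using TensorProduct.induction_on with
    | zero => exact ⟨0, by simp⟩
    | tmul s x =>
      obtain ⟨r, hr⟩ := IsIntegrallyClosed.isIntegral_iff.mp x.2
      refine ⟨r • s, ?_⟩
      have h1 : ((TensorProduct.toIntegralClosure R S K (s ⊗ₜ[R] x) :
          integralClosure S (S ⊗[R] K)) : S ⊗[R] K) = s ⊗ₜ[R] (x : K) := by
        simp [TensorProduct.toIntegralClosure]
      rw [h1, ← hr, Algebra.algebraMap_eq_smul_one, TensorProduct.tmul_smul,
        TensorProduct.smul_tmul']
    | add x y hx hy =>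
      obtain ⟨s1, h1⟩ := hx
      obtain ⟨s2, h2⟩ := hy
      refine ⟨s1 + s2, ?_⟩
      rw [map_add, Subalgebra.coe_add, h1, h2, TensorProduct.add_tmul]
  obtain ⟨s, hs⟩ := key w
  exact ⟨s, by rw [← hs, hw]⟩

theorem includeLeft_inj : Function.Injective (fun s : S => s ⊗ₜ[R] (1 : K)) := by
  have h := Algebra.TensorProduct.includeLeft_injective (R := R) (S := R) (A := S) (B := K)
    (IsFractionRing.injective R K)
  exact h

variable (K) in
/-- the canonical map `S ⊗ K → L₁` -/
noncomputable def psi (φ : S →ₐ[R] L₁) (hinj : Function.Injective (algebraMap R L₁)) :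
    S ⊗[R] K →ₐ[R] L₁ :=
  Algebra.TensorProduct.productMap φ
    (IsFractionRing.liftAlgHom (K := K) (g := Algebra.ofId R L₁) hinj)

theorem psi_tmul_one (φ : S →ₐ[R] L₁) (hinj : Function.Injective (algebraMap R L₁)) (s : S) :
    psi K φ hinj (s ⊗ₜ[R] (1 : K)) = φ s := by
  simp [psi]

instance : IsArtinianRing (S ⊗[R] K) := by
  haveI : Module.Finite K (K ⊗[R] S) := inferInstance
  haveI : IsArtinianRing (K ⊗[R] S) := IsArtinianRing.of_finite K _
  exact (Algebra.TensorProduct.comm R K S).toRingEquiv.surjective.isArtinianRing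

instance : IsReduced (S ⊗[R] K) := by
  haveI : Algebra.Etale K (K ⊗[R] S) := inferInstance
  haveI : IsReduced (K ⊗[R] S) := Algebra.FormallyUnramified.isReduced_of_field K _
  exact isReduced_of_injective (Algebra.TensorProduct.comm R S K).toRingEquiv.toRingHom
    (Algebra.TensorProduct.comm R S K).injective

variable (K) in
theorem core (φ : S →ₐ[R] L₁) (hinj : Function.Injective (algebraMap R L₁))
    (hsurj : Function.Surjective (psi K φ hinj)) :
    integralClosure R L₁ = φ.range ∧ Algebra.Etale R ↥(integralClosure R L₁) := by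
  obtain ⟨e, he, hψe, hker⟩ := exists_idem (psi K φ hinj).toRingHom hsurj
  have hrange : integralClosure R L₁ = φ.range := by
    apply le_antisymm
    · intro x hx
      obtain ⟨p, hpm, hpx⟩ := hx
      obtain ⟨y, rfl⟩ := hsurj x
      let y' := e * y
      have hy' : psi K φ hinj y' = psi K φ hinj y := by
        change psi K φ hinj (e * y) = _
        rw [map_mul]
        have : psi K φ hinj e = 1 := hψe
        rw [this, one_mul]
      have h0 : psi K φ hinj (Polynomial.aeval y' p) = 0 := by
        rw [← Polynomial.aeval_algHom_apply, hy']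
        rw [Polynomial.aeval_def]
        exact hpx
      have h1 : e * Polynomial.aeval y' p = 0 := hker _ h0
      have hint : IsIntegral R y' := by
        refine ⟨Polynomial.X * p, Polynomial.monic_X.mul hpm, ?_⟩
        rw [← Polynomial.aeval_def, map_mul, Polynomial.aeval_X]
        change e * y * _ = 0
        rw [mul_right_comm, h1, zero_mul]
      obtain ⟨s, hs⟩ := exists_eq_tmul_one y' hint
      refine ⟨s, ?_⟩
      rw [← hy', hs, psi_tmul_one]
      rfl
    · rintro _ ⟨s, rfl⟩
      haveI : Algebra.IsIntegral R S := Algebra.IsIntegral.of_finite R S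
      exact (Algebra.IsIntegral.isIntegral (R := R) s).map φ
  refine ⟨hrange, ?_⟩
  -- the idempotent comes from `S`
  obtain ⟨se, hse⟩ := exists_eq_tmul_one e (isIntegral_of_idem R he)
  have hse_idem : IsIdempotentElem se := by
    apply includeLeft_inj (R := R) (K := K)
    change (se * se) ⊗ₜ[R] (1 : K) = se ⊗ₜ[R] (1 : K)
    have : (se * se) ⊗ₜ[R] (1 : K) = (se ⊗ₜ[R] (1 : K)) * (se ⊗ₜ[R] (1 : K)) := by
      simp
    rw [this, ← hse]
    exact he
  have hφse : φ se = 1 := by
    rw [← psi_tmul_one (K := K) φ hinj, ← hse]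
    exact hψe
  have hkerφ : RingHom.ker φ = Ideal.span {1 - se} := by
    apply le_antisymm
    · intro s hs
      have h0 : psi K φ hinj (s ⊗ₜ[R] (1 : K)) = 0 := by
        rw [psi_tmul_one]
        exact hs
      have h1 := hker _ h0
      rw [hse] at h1
      have h2 : (se * s) ⊗ₜ[R] (1 : K) = (0 : S) ⊗ₜ[R] (1 : K) := by
        rw [TensorProduct.zero_tmul, ← h1]
        simp
      have h3 : se * s = 0 := includeLeft_inj (R := R) (K := K) h2
      rw [Ideal.mem_span_singleton]
      refine ⟨s, ?_⟩
      rw [sub_mul, one_mul, h3, sub_zero]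
    · rw [Ideal.span_le, Set.singleton_subset_iff, SetLike.mem_coe, RingHom.mem_ker, map_sub,
        map_one, hφse, sub_self]
  haveI : IsLocalization.Away se (S ⧸ Ideal.span {1 - se}) :=
    IsLocalization.Away.quotient_of_isIdempotentElem hse_idem
  haveI : Algebra.Etale S (S ⧸ Ideal.span {1 - se}) := Algebra.Etale.of_isLocalizationAway se
  haveI : Algebra.Etale R (S ⧸ Ideal.span {1 - se}) := Algebra.Etale.comp R S _
  let e1 : (S ⧸ Ideal.span {1 - se}) ≃ₐ[R] (S ⧸ RingHom.ker φ) :=
    Ideal.quotientEquivAlgOfEq R hkerφ.symm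
  let e2 : (S ⧸ RingHom.ker φ) ≃ₐ[R] φ.range := Ideal.quotientKerEquivRange φ
  let e3 : φ.range ≃ₐ[R] ↥(integralClosure R L₁) := Subalgebra.equivOfEq _ _ hrange.symm
  exact Algebra.Etale.of_equiv ((e1.trans e2).trans e3)

end Core

end Groth.Agent.Helper2.Compositum
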