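import Mathlib
import Groth.Agent.Lib.Helper2.Compositum.Core

/-!
# Integral closure in a compositum with an étale integral closure (helper2)
-/

set_option autoImplicit false
set_option backward.isDefEq.respectTransparency.types false
set_option synthInstance.maxHeartbeats 400000
set_option maxHeartbeats 4000000
set_option linter.style.haveILetI false
set_option linter.unusedSectionVars false
set_option linter.unusedVariables false

universe u
open TensorProduct

namespace Groth.Agent.Helper2.Compositum

/-- the image of a surjection-to-a-domain from an artinian ring is closed under inverses -/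
theorem inv_mem_range {T F : Type*} [CommRing T] [IsArtinianRing T] [Field F] (ρ : T →+* F)
    {x : F} (hx : x ∈ ρ.range) : x⁻¹ ∈ ρ.range := by
  by_cases hx0 : x = 0
  · rw [hx0, inv_zero]
    exact ⟨0, map_zero _⟩
  obtain ⟨t, rfl⟩ := hx
  haveI : (RingHom.ker ρ).IsPrime := RingHom.ker_isPrime ρ
  haveI : IsDomain (T ⧸ RingHom.ker ρ) := Ideal.Quotient.isDomain _
  have hf : IsField (T ⧸ RingHom.ker ρ) := IsArtinianRing.isField_of_isDomain _
  have hmax : (RingHom.ker ρ).IsMaximal := Ideal.Quotient.maximal_of_isField _ hf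
  have ht : t ∉ RingHom.ker ρ := fun h => hx0 h
  obtain ⟨t', i, hi, hti⟩ := hmax.exists_inv ht
  refine ⟨t', ?_⟩
  have h1 : ρ t' * ρ t + ρ i = 1 := by rw [← map_mul, ← map_add, hti, map_one]
  rw [(RingHom.mem_ker).mp hi, add_zero] at h1
  exact (eq_inv_of_mul_eq_one_left h1)

theorem surjective_of_closure {T F : Type*} [CommRing T] [IsArtinianRing T] [Field F]
    (ρ : T →+* F) (s : Set F) (hs : s ⊆ Set.range ρ) (hgen : Subfield.closure s = ⊤) :
    Function.Surjective ρ := by
  let Fs : Subfield F :=
    { toSubring := RingHom.range ρ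
      inv_mem' := fun x hx =>
        (show x⁻¹ ∈ RingHom.range ρ from inv_mem_range ρ (show x ∈ RingHom.range ρ from hx)) }
  have hle : Subfield.closure s ≤ Fs := by
    rw [Subfield.closure_le]
    intro x hx
    obtain ⟨t, ht⟩ := hs hx
    exact ⟨t, ht⟩
  rw [hgen] at hle
  intro x
  obtain ⟨t, ht⟩ := hle (Subfield.mem_top x)
  exact ⟨t, ht⟩

section Main

variable (A A' L L₁ : Type u) [CommRing A] [IsDomain A]
    [IsIntegrallyClosed A] [CommRing A'] [IsDomain A'] [IsIntegrallyClosed A'] [Algebra A A']
    [Field L] [Algebra A L] [Algebra.IsAlgebraic A L]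
    [Algebra.Etale A ↥(integralClosure A L)]
    [Field L₁] [Algebra A' L₁] [Algebra L L₁] [Algebra A L₁] [IsScalarTower A A' L₁]
    [IsScalarTower A L L₁]

/-- the map `A' ⊗ C → L₁` -/
noncomputable def phi : A' ⊗[A] ↥(integralClosure A L) →ₐ[A'] L₁ :=
  Algebra.TensorProduct.lift (Algebra.ofId A' L₁)
    ((IsScalarTower.toAlgHom A L L₁).comp (integralClosure A L).val) (fun _ _ => Commute.all _ _)

theorem phi_tmul (a' : A') (c : ↥(integralClosure A L)) :
    phi A A' L L₁ (a' ⊗ₜ[A] c) = algebraMap A' L₁ a' * algebraMap L L₁ (c : L) := by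
  simp [phi, Algebra.ofId_apply]

theorem main (hinj : Function.Injective (algebraMap A L))
    (hinj' : Function.Injective (algebraMap A' L₁))
    (hgen : Subfield.closure (Set.range (algebraMap A' L₁) ∪ Set.range (algebraMap L L₁)) = ⊤) :
    Algebra.Etale A' ↥(integralClosure A' L₁) ∧
      integralClosure A' L₁ =
        Algebra.adjoin A' ((algebraMap L L₁) '' {x : L | IsIntegral A x}) := by
  haveI : Algebra.FiniteType A ↥(integralClosure A L) := inferInstance
  haveI : Module.Finite A ↥(integralClosure A L) := Algebra.IsIntegral.finite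
  let K := FractionRing A'
  let φ := phi A A' L L₁
  have hinjAL₁ : Function.Injective (algebraMap A L₁) := by
    rw [IsScalarTower.algebraMap_eq A L L₁]
    exact (algebraMap L L₁).injective.comp hinj
  -- surjectivity of `ψ`
  have hsurj : Function.Surjective (psi K φ hinj') := by
    refine surjective_of_closure (psi K φ hinj').toRingHom _ ?_ hgen
    have hA' : ∀ a' : A', algebraMap A' L₁ a' ∈ Set.range (psi K φ hinj').toRingHom := fun a' =>
      ⟨algebraMap A' _ a', (psi K φ hinj').commutes a'⟩
    rintro x (⟨a', rfl⟩ | ⟨l, rfl⟩)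
    · exact hA' a'
    · obtain ⟨y, hy0, hint⟩ :=
        (Algebra.IsAlgebraic.isAlgebraic (R := A) l).exists_integral_multiple
      have h1 : algebraMap L L₁ (y • l) ∈ Set.range (psi K φ hinj').toRingHom := by
        refine ⟨((1 : A') ⊗ₜ[A] (⟨y • l, hint⟩ : ↥(integralClosure A L))) ⊗ₜ[A'] (1 : K), ?_⟩
        change psi K φ hinj' _ = _
        rw [psi_tmul_one]
        change phi A A' L L₁ _ = _
        rw [phi_tmul, map_one, one_mul]
      have h2 : algebraMap L L₁ (y • l) = algebraMap A L₁ y * algebraMap L L₁ l := by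
        rw [Algebra.smul_def, map_mul, ← IsScalarTower.algebraMap_apply A L L₁]
      have h3 : algebraMap A L₁ y ∈ Set.range (psi K φ hinj').toRingHom := by
        rw [IsScalarTower.algebraMap_apply A A' L₁]
        exact hA' _
      have h4 : algebraMap A L₁ y ≠ 0 := fun h => hy0 (hinjAL₁ (by rw [h, map_zero]))
      have h5 : algebraMap L L₁ l = (algebraMap A L₁ y)⁻¹ * algebraMap L L₁ (y • l) := by
        rw [h2, ← mul_assoc, inv_mul_cancel₀ h4, one_mul]
      rw [h5]
      have h3' := inv_mem_range (psi K φ hinj').toRingHom (x := algebraMap A L₁ y) h3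
      exact (RingHom.range (psi K φ hinj').toRingHom).mul_mem h3' h1
  obtain ⟨hrange, hetale⟩ := core K φ hinj' hsurj
  refine ⟨hetale, ?_⟩
  rw [hrange]
  apply le_antisymm
  · rintro _ ⟨z, rfl⟩
    induction z using TensorProduct.induction_on with
    | zero => rw [map_zero]; exact Subalgebra.zero_mem _
    | tmul a' c =>
      change phi A A' L L₁ _ ∈ _
      rw [phi_tmul]
      exact Subalgebra.mul_mem _ (Subalgebra.algebraMap_mem _ a')
        (Algebra.subset_adjoin ⟨(c : L), c.2, rfl⟩)
    | add x y hx hy =>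
      rw [map_add]
      exact Subalgebra.add_mem _ hx hy
  · rw [Algebra.adjoin_le_iff]
    rintro _ ⟨l, hl, rfl⟩
    refine ⟨(1 : A') ⊗ₜ[A] (⟨l, hl⟩ : ↥(integralClosure A L)), ?_⟩
    change phi A A' L L₁ _ = _
    rw [phi_tmul, map_one, one_mul]

end Main

end Groth.Agent.Helper2.Compositum
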